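import Cfsg.Agent.RuLat.Basic

set_option autoImplicit false

open Cfsg.Spor

namespace Cfsg.Agent.RuLat

/-- A flat position as an index. -/
def idx (k : ℕ) : RuIdx := (⟨k / 4 % 7, Nat.mod_lt _ (by decide)⟩, ⟨k % 4, Nat.mod_lt _ (by decide)⟩)

/-- The free coordinate number `j`. -/
def freeIdx (fr : List ℕ) (j : ℕ) : RuIdx := idx (fr.getD j 0)

/-- The support of a relation. -/
def relSupp (fr : List ℕ) (dp : List (List ℕ)) (p : RuIdx) : List RuIdx :=
  p :: (dp.getD (code p) []).map (freeIdx fr)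

/-- A code bit from the free bits. -/
def wbit (dp : List (List ℕ)) (b : ℕ) (p : RuIdx) : Bool :=
  (dp.getD (code p) []).foldl (fun acc j ↦ xor acc (b.testBit j)) false

lemma foldl_xor (h : ℕ → Bool) : ∀ (l : List ℕ) (a : Bool),
    (if l.foldl (fun acc j ↦ xor acc (h j)) a then (1 : ZMod 2) else 0) =
      (if a then 1 else 0) + (l.map fun j ↦ if h j then (1 : ZMod 2) else 0).sum
  | [], a => by simp only [List.foldl_nil, List.map_nil, List.sum_nil, add_zero]; cases a <;> rfl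
  | j :: l, a => by
    rw [List.foldl_cons, foldl_xor h l, List.map_cons, List.sum_cons, ← add_assoc]
    congr 1
    cases a <;> cases h j <;> decide

/-- The generic derivation of code bits from the relations. -/
theorem bits_eq (fr : List ℕ) (dp : List (List ℕ)) (nf : ℕ) (β : RuIdx → ZMod 2) (b : ℕ)
    (hb : ∀ j < nf, b.testBit j = decide (β (freeIdx fr j) = 1))
    (hcheck : ∀ p : RuIdx, (∀ j ∈ dp.getD (code p) [], j < nf) ∧
      ((∃ j, j < nf ∧ dp.getD (code p) [] = [j] ∧ freeIdx fr j = p) ∨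
        ((relSupp fr dp p).map β).sum = 0)) (p : RuIdx) :
    wbit dp b p = decide (β p = 1) := by
  have h2 : ∀ z : ZMod 2, (if decide (z = 1) then (1 : ZMod 2) else 0) = z := by decide
  obtain ⟨hlt, h⟩ := hcheck p
  have hw : (if wbit dp b p then (1 : ZMod 2) else 0) =
      ((dp.getD (code p) []).map fun j ↦ β (freeIdx fr j)).sum := by
    rw [wbit, foldl_xor]
    simp only [Bool.false_eq_true, if_false, zero_add]
    congr 1
    exact List.map_congr_left fun j hj ↦ by rw [hb j (hlt j hj), h2]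
  have hz : (if wbit dp b p then (1 : ZMod 2) else 0) = β p := by
    rw [hw]
    rcases h with ⟨j, -, hd, hj⟩ | h
    · rw [hd, List.map_cons, List.map_nil, List.sum_cons, List.sum_nil, add_zero, hj]
    · simp only [relSupp, List.map_cons, List.sum_cons, List.map_map] at h
      exact ((by decide : ∀ a s : ZMod 2, a + s = 0 → s = a) _ _ h)
  rcases hwb : wbit dp b p <;> rw [hwb] at hz <;> rw [← hz] <;> decide

lemma sum_eq_supp (S : List RuIdx) (hS : S.Nodup) (F : RuIdx → ZMod 2) :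
    ∑ p, (if p ∈ S then F p else 0) = (S.map F).sum := by
  rw [Finset.sum_ite, Finset.sum_const_zero, add_zero, ← List.sum_toFinset F hS]
  congr 1
  ext p; simp

/-- Parity of a coordinate. -/
def par0 (u : GaussianInt) : ZMod 2 := ((u.re + u.im : ℤ) : ZMod 2)

/-- Halved relation, first code. -/
def ok0 (fr : List ℕ) (dp : List (List ℕ)) (p : RuIdx) (g : RuVec) : Prop :=
  (relSupp fr dp p).Nodup ∧ ∀ q, (g q).re % 4 = (if q ∈ relSupp fr dp p then 2 else 0) ∧
    (g q).im % 4 = (if q ∈ relSupp fr dp p then 2 else 0)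

instance (fr : List ℕ) (dp : List (List ℕ)) (p : RuIdx) (g : RuVec) : Decidable (ok0 fr dp p g) := by
  unfold ok0; infer_instance

/-- Halved relation, second code. -/
def ok1 (fr : List ℕ) (dp : List (List ℕ)) (p : RuIdx) (g : RuVec) : Prop :=
  (relSupp fr dp p).Nodup ∧ ∀ q, (g q).re % 2 = 0 ∧ (g q).im % 2 = 0 ∧
    ((g q).re + (g q).im) % 4 = (if q ∈ relSupp fr dp p then 2 else 0)

instance (fr : List ℕ) (dp : List (List ℕ)) (p : RuIdx) (g : RuVec) : Decidable (ok1 fr dp p g) := by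
  unfold ok1; infer_instance

theorem rel0_ok : ∀ p : RuIdx, (∀ j ∈ deps0.getD (code p) [], j < 9) ∧
    ((∃ j : Fin 9, deps0.getD (code p) [] = [j.val] ∧ freeIdx free0 j.val = p) ∨
      ∃ e ∈ rel0, e.1 = code p ∧ ok0 free0 deps0 p (comb e.2)) := by decide +kernel

theorem rel1_ok : ∀ p : RuIdx, (∀ j ∈ deps1.getD (code p) [], j < 10) ∧
    ((∃ j : Fin 10, deps1.getD (code p) [] = [j.val] ∧ freeIdx free1 j.val = p) ∨
      ∃ e ∈ rel1, e.1 = code p ∧ ok1 free1 deps1 p (comb e.2)) := by decide +kernel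

/-- The checked alternative for a code word, weight eight. -/
def word0 (b : ℕ) : Prop :=
  (∀ p, wbit deps0 b p = false) ∨ 9 ≤ (Finset.univ.filter fun p ↦ wbit deps0 b p = true).card ∨
    ((Finset.univ.filter fun p ↦ wbit deps0 b p = true).card = 8 ∧
      ∃ e ∈ wit0, wbit deps0 b (idx e.1) = true ∧ (comb e.2 (idx e.1)).re % 4 = 2 ∧
        (comb e.2 (idx e.1)).im % 4 = 2 ∧
        ∀ q, wbit deps0 b q = true → q ≠ idx e.1 →
          (comb e.2 q).re % 4 = 0 ∧ (comb e.2 q).im % 4 = 0)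

instance (b : ℕ) : Decidable (word0 b) := by unfold word0; infer_instance

/-- The checked alternative for a code word, weight four. -/
def word1 (b : ℕ) : Prop :=
  (∀ p, wbit deps1 b p = false) ∨ 5 ≤ (Finset.univ.filter fun p ↦ wbit deps1 b p = true).card ∨
    ((Finset.univ.filter fun p ↦ wbit deps1 b p = true).card = 4 ∧
      ∃ e ∈ wit1, wbit deps1 b (idx e.1) = true ∧ (comb e.2 (idx e.1)).re % 4 = 2 ∧
        (comb e.2 (idx e.1)).im % 4 = 0 ∧
        ∀ q, wbit deps1 b q = true → q ≠ idx e.1 →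
          (comb e.2 q).re % 4 = 0 ∧ (comb e.2 q).im % 4 = 0)

instance (b : ℕ) : Decidable (word1 b) := by unfold word1; infer_instance

theorem word0_ok : ∀ b < 512, word0 b := by decide +kernel

theorem word1_ok : ∀ b < 1024, word1 b := by decide +kernel

theorem cover_ok : ∀ p : RuIdx, ∃ n ∈ cover, ((comb n p).re + (comb n p).im) % 2 = 1 := by
  decide +kernel

/-- A vector separating two coordinates. -/
def sepOk (g : RuVec) (p q : RuIdx) : Prop :=
  (∀ r, ((g r).re + (g r).im) % 2 = 0) ∧ (g p).re % 2 ≠ (g q).re % 2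

instance (g : RuVec) (p q : RuIdx) : Decidable (sepOk g p q) := by unfold sepOk; infer_instance

theorem sep_ok : ∀ p q : RuIdx, code q < code p → ∃ n ∈ sep, sepOk (comb n) p q := by
  decide +kernel

lemma code_inj : ∀ p q : RuIdx, code p = code q → p = q := by decide +kernel

/-- The second parity. -/
def par1 (u : GaussianInt) : ZMod 2 := ((u.re : ℤ) : ZMod 2)

lemma cast_two_iff (z : ℤ) : ((z : ZMod 2) = 1) ↔ z % 2 = 1 := by
  have h := ZMod.intCast_eq_intCast_iff' z 1 2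
  norm_num at h
  exact h

lemma half_sum_zero (F : RuIdx → ℤ) (β : RuIdx → ZMod 2) (hF : ∀ p, 2 ∣ F p)
    (hβ : ∀ p, ((F p / 2 : ℤ) : ZMod 2) = β p) (h4 : (4 : ℤ) ∣ ∑ p, F p) : ∑ p, β p = 0 := by
  simp only [← hβ]
  rw [← Int.cast_sum, ZMod.intCast_zmod_eq_zero_iff_dvd]
  have e : ∑ p, F p = 2 * ∑ p, F p / 2 := by
    rw [Finset.mul_sum]
    exact Finset.sum_congr rfl fun p _ ↦ (Int.mul_ediv_cancel' (hF p)).symm
  omega

/-- Code bits of the first kind. -/
theorem bits0 {x : RuVec} (hx : x ∈ span) : ∃ b < 512, ∀ p, wbit deps0 b p = decide (par0 (x p) = 1) := by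
  set f : Fin 9 → Bool := fun j ↦ decide (par0 (x (freeIdx free0 j.val)) = 1) with hf
  refine ⟨Nat.ofBits f, Nat.ofBits_lt_two_pow f, bits_eq free0 deps0 9 (fun p ↦ par0 (x p)) _ ?_ ?_⟩
  · intro j hj
    rw [Nat.testBit_ofBits_lt f j hj]
  · intro p
    obtain ⟨hlt, h⟩ := rel0_ok p
    refine ⟨hlt, ?_⟩
    rcases h with ⟨j, h1, h2⟩ | ⟨e, -, -, hnd, hg⟩
    · exact .inl ⟨j, j.isLt, h1, h2⟩
    refine .inr ?_
    rw [← sum_eq_supp _ hnd]
    refine half_sum_zero (fun q ↦ (x q).re * (comb e.2 q).re + (x q).im * (comb e.2 q).im) _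
      (fun q ↦ ?_) (fun q ↦ ?_) (four_dvd_dot hx (comb_mem e.2))
    · obtain ⟨h1, h2⟩ := hg q
      refine dvd_add (Dvd.dvd.mul_left ?_ _) (Dvd.dvd.mul_left ?_ _) <;> split_ifs at h1 h2 <;> omega
    · obtain ⟨h1, h2⟩ := hg q
      split_ifs at h1 h2 ⊢ with hq
      · obtain ⟨a, ha⟩ : ∃ a, (comb e.2 q).re = 4 * a + 2 := ⟨(comb e.2 q).re / 4, by omega⟩
        obtain ⟨c, hc⟩ : ∃ c, (comb e.2 q).im = 4 * c + 2 := ⟨(comb e.2 q).im / 4, by omega⟩
        rw [ha, hc, show (x q).re * (4 * a + 2) + (x q).im * (4 * c + 2) =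
          2 * ((x q).re + (x q).im + 2 * ((x q).re * a + (x q).im * c)) by ring,
          Int.mul_ediv_cancel_left _ (by norm_num), par0]
        push_cast
        rw [show (2 : ZMod 2) = 0 from rfl, zero_mul, add_zero]
      · obtain ⟨a, ha⟩ : ∃ a, (comb e.2 q).re = 4 * a := ⟨(comb e.2 q).re / 4, by omega⟩
        obtain ⟨c, hc⟩ : ∃ c, (comb e.2 q).im = 4 * c := ⟨(comb e.2 q).im / 4, by omega⟩
        rw [ha, hc, show (x q).re * (4 * a) + (x q).im * (4 * c) =
          2 * (2 * ((x q).re * a + (x q).im * c)) by ring, Int.mul_ediv_cancel_left _ (by norm_num)]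
        push_cast
        rw [show (2 : ZMod 2) = 0 from rfl, zero_mul]

/-- Code bits of the second kind. -/
theorem bits1 {x : RuVec} (hx : x ∈ span) (hev : ∀ p, ((x p).re + (x p).im) % 2 = 0) :
    ∃ b < 1024, ∀ p, wbit deps1 b p = decide (par1 (x p) = 1) := by
  set f : Fin 10 → Bool := fun j ↦ decide (par1 (x (freeIdx free1 j.val)) = 1) with hf
  refine ⟨Nat.ofBits f, Nat.ofBits_lt_two_pow f, bits_eq free1 deps1 10 (fun p ↦ par1 (x p)) _ ?_ ?_⟩
  · intro j hj
    rw [Nat.testBit_ofBits_lt f j hj]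
  · intro p
    obtain ⟨hlt, h⟩ := rel1_ok p
    refine ⟨hlt, ?_⟩
    rcases h with ⟨j, h1, h2⟩ | ⟨e, -, -, hnd, hg⟩
    · exact .inl ⟨j, j.isLt, h1, h2⟩
    refine .inr ?_
    rw [← sum_eq_supp _ hnd]
    refine half_sum_zero (fun q ↦ (x q).re * (comb e.2 q).re + (x q).im * (comb e.2 q).im) _
      (fun q ↦ ?_) (fun q ↦ ?_) (four_dvd_dot hx (comb_mem e.2))
    · obtain ⟨h1, h2, -⟩ := hg q
      exact dvd_add (Dvd.dvd.mul_left (Int.dvd_of_emod_eq_zero h1) _)
        (Dvd.dvd.mul_left (Int.dvd_of_emod_eq_zero h2) _)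
    · obtain ⟨h1, h2, h3⟩ := hg q
      obtain ⟨d, hd⟩ : ∃ d, (x q).im = (x q).re + 2 * d := ⟨((x q).im - (x q).re) / 2, by
        have := hev q; omega⟩
      obtain ⟨c, hc⟩ : ∃ c, (comb e.2 q).im = 2 * c := ⟨(comb e.2 q).im / 2, by omega⟩
      obtain ⟨a, ha⟩ : ∃ a, (comb e.2 q).re = 2 * a := ⟨(comb e.2 q).re / 2, by omega⟩
      rw [ha, hc] at h3
      rw [ha, hc, hd, show (x q).re * (2 * a) + ((x q).re + 2 * d) * (2 * c) =
        2 * ((x q).re * (a + c) + 2 * (d * c)) by ring, Int.mul_ediv_cancel_left _ (by norm_num)]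
      split_ifs at h3 ⊢ with hq
      · obtain ⟨k, hk⟩ : ∃ k, a + c = 2 * k + 1 := ⟨(a + c) / 2, by omega⟩
        rw [hk, par1]
        push_cast
        rw [show (2 : ZMod 2) = 0 from rfl]
        ring
      · obtain ⟨k, hk⟩ : ∃ k, a + c = 2 * k := ⟨(a + c) / 2, by omega⟩
        rw [hk]
        push_cast
        rw [show (2 : ZMod 2) = 0 from rfl]
        ring

/-- The contribution of a coordinate to the norm. -/
def w (x : RuVec) (p : RuIdx) : ℤ := (x p).re * (x p).re + (x p).im * (x p).im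

lemma w_nonneg (x : RuVec) (p : RuIdx) : 0 ≤ w x p :=
  add_nonneg (mul_self_nonneg _) (mul_self_nonneg _)

lemma tight (x : RuVec) (S : Finset RuIdx) (m : ℤ) (hm : ∀ p ∈ S, m ≤ w x p) :
    m * S.card ≤ dot x x ∧
      (dot x x = m * S.card → (∀ p ∈ S, w x p = m) ∧ ∀ p, p ∉ S → w x p = 0) := by
  have hs : dot x x = ∑ p ∈ S, w x p + ∑ p ∈ Sᶜ, w x p := (Finset.sum_add_sum_compl S _).symm
  have h1 : m * S.card ≤ ∑ p ∈ S, w x p := by
    simpa [mul_comm] using Finset.card_nsmul_le_sum S (w x) m hm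
  have h2 : 0 ≤ ∑ p ∈ Sᶜ, w x p := Finset.sum_nonneg fun p _ ↦ w_nonneg x p
  refine ⟨by omega, fun he ↦ ⟨fun p hp ↦ ?_, fun p hp ↦ ?_⟩⟩
  · have h3 : ∑ q ∈ S, w x q = ∑ q ∈ S, m := by
      rw [Finset.sum_const, nsmul_eq_mul, mul_comm]; push_cast; omega
    exact ((Finset.sum_eq_sum_iff_of_le hm).1 h3.symm p hp).symm
  · have h3 : ∑ q ∈ Sᶜ, w x q = 0 := by omega
    exact (Finset.sum_eq_zero_iff_of_nonneg fun q _ ↦ w_nonneg x q).1 h3 p (by simpa using hp)

lemma zero_of_w {x : RuVec} {p : RuIdx} (h : w x p = 0) : (x p).re = 0 ∧ (x p).im = 0 := by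
  have h1 := mul_self_nonneg (x p).re
  have h2 := mul_self_nonneg (x p).im
  unfold w at h
  exact ⟨mul_self_eq_zero.1 (by omega), mul_self_eq_zero.1 (by omega)⟩

lemma dot_single_mod {x g : RuVec} {p : RuIdx}
    (h : ∀ q, q ≠ p → (4 : ℤ) ∣ (x q).re * (g q).re + (x q).im * (g q).im)
    (h4 : (4 : ℤ) ∣ dot x g) : (4 : ℤ) ∣ (x p).re * (g p).re + (x p).im * (g p).im := by
  rw [dot, ← Finset.add_sum_erase _ _ (Finset.mem_univ p)] at h4
  exact (Int.dvd_add_left (Finset.dvd_sum fun q hq ↦ h q (Finset.ne_of_mem_erase hq))).1 h4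

lemma w_odd {x : RuVec} {p : RuIdx} (h : ((x p).re + (x p).im) % 2 = 1) : 1 ≤ w x p := by
  rcases eq_or_lt_of_le (w_nonneg x p) with h0 | h0
  · obtain ⟨a, b⟩ := zero_of_w h0.symm; omega
  · omega

theorem no_root {x : RuVec} (hx : x ∈ span) : dot x x ≠ 8 := by
  intro h8
  obtain ⟨b, hb, hbit⟩ := bits0 hx
  have hpar : ∀ p, wbit deps0 b p = true ↔ ((x p).re + (x p).im) % 2 = 1 := fun p ↦ by
    rw [hbit, decide_eq_true_iff, par0, cast_two_iff]
  set S := Finset.univ.filter fun p ↦ wbit deps0 b p = true with hS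
  obtain ⟨hle, heq⟩ := tight x S 1 fun p hp ↦ w_odd ((hpar p).1 (Finset.mem_filter.1 hp).2)
  rcases word0_ok b hb with h0 | h9 | ⟨hc, e, -, hp1, hre, him, hq⟩
  · have hev : ∀ p, ((x p).re + (x p).im) % 2 = 0 := fun p ↦ by
      have := (hpar p).not.1 (by simp [h0 p]); omega
    obtain ⟨c, hc, cbit⟩ := bits1 hx hev
    have hpar1 : ∀ p, wbit deps1 c p = true ↔ (x p).re % 2 = 1 := fun p ↦ by
      rw [cbit, decide_eq_true_iff, par1, cast_two_iff]
    set T := Finset.univ.filter fun p ↦ wbit deps1 c p = true with hT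
    obtain ⟨hle1, heq1⟩ := tight x T 2 fun p hp ↦ by
      have h1 := (hpar1 p).1 (Finset.mem_filter.1 hp).2
      have h2 := hev p
      have : 0 < (x p).re * (x p).re := mul_self_pos.2 (by omega)
      have : 0 < (x p).im * (x p).im := mul_self_pos.2 (by omega)
      unfold w; omega
    rcases word1_ok c hc with h0' | h5 | ⟨hc4, e, -, hp1, hre, him, hq⟩
    · have h2 : ∀ p, (x p).re % 2 = 0 ∧ (x p).im % 2 = 0 := fun p ↦ by
        have := (hpar1 p).not.1 (by simp [h0' p]); have := hev p; omega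
      set z : RuVec := fun p ↦ ⟨(x p).re / 2, (x p).im / 2⟩ with hz
      have hxz : ∀ p, (x p).re = 2 * (z p).re ∧ (x p).im = 2 * (z p).im := fun p ↦ by
        have := h2 p; simp only [hz]; omega
      have hzn : dot z z = 2 := by
        have e : dot x x = 4 * dot z z := by
          rw [dot, dot, Finset.mul_sum]
          exact Finset.sum_congr rfl fun p _ ↦ by rw [(hxz p).1, (hxz p).2]; ring
        omega
      have heven : ∀ g ∈ span, (2 : ℤ) ∣ dot z g := fun g hg ↦ by
        have e : dot x g = 2 * dot z g := by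
          rw [dot, dot, Finset.mul_sum]
          exact Finset.sum_congr rfl fun p _ ↦ by rw [(hxz p).1, (hxz p).2]; ring
        have := four_dvd_dot hx hg
        omega
      set U := Finset.univ.filter fun p ↦ ¬((z p).re = 0 ∧ (z p).im = 0) with hU
      obtain ⟨hleU, heqU⟩ := tight z U 1 fun p hp ↦ by
        rcases eq_or_lt_of_le (w_nonneg z p) with h | h
        · exact absurd (zero_of_w h.symm) (Finset.mem_filter.1 hp).2
        · omega
      have hcardU : U.card ≤ 2 := by omega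
      have hsum : ∀ g, dot z g = ∑ p ∈ U, ((z p).re * (g p).re + (z p).im * (g p).im) := fun g ↦ by
        refine (Finset.sum_subset (Finset.subset_univ U) fun p _ hp ↦ ?_).symm
        obtain ⟨a, b⟩ := not_not.1 fun h ↦ hp (Finset.mem_filter.2 ⟨Finset.mem_univ p, h⟩)
        rw [a, b]; ring
      have hsum2 : dot z z = ∑ p ∈ U, ((z p).re * (z p).re + (z p).im * (z p).im) := hsum z
      interval_cases hU2 : U.card
      · rw [Finset.card_eq_zero.1 hU2, Finset.sum_empty] at hsum2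
        omega
      · obtain ⟨p, hp⟩ := Finset.card_eq_one.1 hU2
        rw [hp, Finset.sum_singleton, hzn] at hsum2
        obtain ⟨n, -, hn⟩ := cover_ok p
        have hd := heven _ (comb_mem n)
        rw [hsum, hp, Finset.sum_singleton] at hd
        have hre1 : -1 ≤ (z p).re ∧ (z p).re ≤ 1 := ⟨by nlinarith, by nlinarith⟩
        have him1 : -1 ≤ (z p).im ∧ (z p).im ≤ 1 := ⟨by nlinarith, by nlinarith⟩
        obtain ⟨r1, r2⟩ := hre1
        obtain ⟨i1, i2⟩ := him1
        interval_cases hr : (z p).re <;> interval_cases hi : (z p).im <;> omega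
      · obtain ⟨p, q, hpq, hp⟩ := Finset.card_eq_two.1 hU2
        obtain ⟨hone, -⟩ := heqU (by rw [hzn]; norm_num)
        have unit : ∀ r ∈ U, ((z r).re + (z r).im) % 2 = 1 ∧
            -1 ≤ (z r).re ∧ (z r).re ≤ 1 ∧ -1 ≤ (z r).im ∧ (z r).im ≤ 1 := fun r hr ↦ by
          have h := hone r hr
          unfold w at h
          have r1 : -1 ≤ (z r).re ∧ (z r).re ≤ 1 := ⟨by nlinarith, by nlinarith⟩
          have r2 : -1 ≤ (z r).im ∧ (z r).im ≤ 1 := ⟨by nlinarith, by nlinarith⟩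
          refine ⟨?_, r1.1, r1.2, r2.1, r2.2⟩
          obtain ⟨r11, r12⟩ := r1
          obtain ⟨r21, r22⟩ := r2
          interval_cases h1 : (z r).re <;> interval_cases h2 : (z r).im <;> omega
        obtain ⟨up, a1, a2, a3, a4⟩ := unit p (by rw [hp]; simp)
        obtain ⟨uq, b1, b2, b3, b4⟩ := unit q (by rw [hp]; simp)
        obtain ⟨n, -, hg, hne⟩ : ∃ n ∈ sep, sepOk (comb n) p q := by
          rcases lt_or_gt_of_ne (fun h ↦ hpq (code_inj p q h)) with h | h
          · obtain ⟨n, h1, h2, h3⟩ := sep_ok q p h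
            exact ⟨n, h1, h2, fun e ↦ h3 e.symm⟩
          · exact sep_ok p q h
        have hd := heven _ (comb_mem n)
        rw [hsum, hp, Finset.sum_pair hpq] at hd
        have := hg p; have := hg q
        interval_cases h1 : (z p).re <;> interval_cases h2 : (z p).im <;>
          interval_cases h3 : (z q).re <;> interval_cases h4 : (z q).im <;> omega
    · have h5' : 5 ≤ T.card := h5
      omega
    · have hcT : T.card = 4 := hc4
      obtain ⟨h1, h0''⟩ := heq1 (by rw [hcT, h8]; norm_num)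
      have hd := dot_single_mod (p := idx e.1) (fun q hne ↦ ?_) (four_dvd_dot hx (comb_mem e.2))
      · obtain ⟨a, ha⟩ : ∃ a, (comb e.2 (idx e.1)).re = 4 * a + 2 :=
          ⟨(comb e.2 (idx e.1)).re / 4, by omega⟩
        obtain ⟨d, hd'⟩ : ∃ d, (comb e.2 (idx e.1)).im = 4 * d :=
          ⟨(comb e.2 (idx e.1)).im / 4, by omega⟩
        obtain ⟨k, hk⟩ := hd
        rw [ha, hd', mul_add] at hk
        have := (hpar1 _).1 hp1
        have e1 : (x (idx e.1)).re * (4 * a) = 4 * ((x (idx e.1)).re * a) := by ring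
        have e2 : (x (idx e.1)).im * (4 * d) = 4 * ((x (idx e.1)).im * d) := by ring
        omega
      · by_cases hqT : wbit deps1 c q = true
        · obtain ⟨g1, g2⟩ := hq q hqT hne
          exact dvd_add (Dvd.dvd.mul_left (Int.dvd_of_emod_eq_zero g1) _)
            (Dvd.dvd.mul_left (Int.dvd_of_emod_eq_zero g2) _)
        · obtain ⟨g1, g2⟩ := zero_of_w (h0'' q fun h ↦ hqT (Finset.mem_filter.1 h).2)
          rw [g1, g2]; norm_num
  · have h9' : 9 ≤ S.card := h9
    omega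
  · have hcS : S.card = 8 := hc
    obtain ⟨h1, h0''⟩ := heq (by rw [hcS, h8]; norm_num)
    have hd := dot_single_mod (p := idx e.1) (fun q hne ↦ ?_) (four_dvd_dot hx (comb_mem e.2))
    · obtain ⟨a, ha⟩ : ∃ a, (comb e.2 (idx e.1)).re = 4 * a + 2 :=
        ⟨(comb e.2 (idx e.1)).re / 4, by omega⟩
      obtain ⟨d, hd'⟩ : ∃ d, (comb e.2 (idx e.1)).im = 4 * d + 2 :=
        ⟨(comb e.2 (idx e.1)).im / 4, by omega⟩
      obtain ⟨k, hk⟩ := hd
      rw [ha, hd', mul_add, mul_add] at hk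
      have := (hpar _).1 hp1
      have e1 : (x (idx e.1)).re * (4 * a) = 4 * ((x (idx e.1)).re * a) := by ring
      have e2 : (x (idx e.1)).im * (4 * d) = 4 * ((x (idx e.1)).im * d) := by ring
      omega
    · by_cases hqT : wbit deps0 b q = true
      · obtain ⟨g1, g2⟩ := hq q hqT hne
        exact dvd_add (Dvd.dvd.mul_left (Int.dvd_of_emod_eq_zero g1) _)
          (Dvd.dvd.mul_left (Int.dvd_of_emod_eq_zero g2) _)
      · obtain ⟨g1, g2⟩ := zero_of_w (h0'' q fun h ↦ hqT (Finset.mem_filter.1 h).2)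
        rw [g1, g2]; norm_num

end Cfsg.Agent.RuLat
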